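import Groth.Agent.Lib.FinRefine4.Alg
import Groth.Agent.S1378
import Mathlib.AlgebraicGeometry.Morphisms.Finite
import Mathlib.AlgebraicGeometry.Morphisms.Proper

/-!
# fppf covers of affine schemes are refined by finite surjective morphisms followed by open covers
-/

universe u

open CategoryTheory AlgebraicGeometry Limits

set_option backward.isDefEq.respectTransparency.types false

namespace Groth.Agent.FinRefine4

/-- An fppf cover of an affine scheme is refined by a finite affine open cover of a finite surjective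
scheme; each piece lands in a member of any given open cover of the fppf cover. -/
theorem exists_refine {R : CommRingCat.{u}} {P : Scheme.{u}} (g : P ⟶ Spec R) [Flat g]
    [LocallyOfFinitePresentation g] [Surjective g] {ι : Type u} (O : ι → P.Opens) (hO : ∀ x, ∃ i, x ∈ O i) :
    ∃ (C : CommRingCat.{u}) (π : Spec C ⟶ Spec R), IsFinite π ∧ Surjective π ∧
      ∃ (m : ℕ) (D : Fin m → CommRingCat.{u}) (j : ∀ k, Spec (D k) ⟶ Spec C) (r : ∀ k, Spec (D k) ⟶ P),
        (∀ k, IsOpenImmersion (j k)) ∧ (∀ y, ∃ k, y ∈ Set.range (j k)) ∧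
          ∀ k, r k ≫ g = j k ≫ π ∧ ∃ i, Set.range (r k) ⊆ O i := by
  classical
  obtain ⟨T, π₀, hπs, hπi, hloc⟩ := Groth.Agent.S1378.result g
  haveI : IsAffine T := isAffine_of_isAffineHom π₀
  let C := Γ(T, ⊤)
  let φ : R ⟶ C := Spec.preimage (T.isoSpec.inv ≫ π₀)
  have hφ : Spec.map φ = T.isoSpec.inv ≫ π₀ := Spec.map_preimage _
  letI : Algebra R C := φ.hom.toAlgebra
  have hint : φ.hom.IsIntegral := by
    have : IsIntegralHom (Spec.map φ) := hφ ▸ inferInstance
    exact IsIntegralHom.SpecMap_iff.1 this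
  haveI : Algebra.IsIntegral R C := ⟨hint⟩
  have key : ∀ p : Spec C, ∃ (a : C) (A : P.Opens) (i : ι) (σ : Γ(P, A) ⟶ CommRingCat.of (Localization.Away a))
      (hA : IsAffineOpen A), p ∈ PrimeSpectrum.basicOpen a ∧ (A : Set P) ⊆ O i ∧
      Spec.preimage (hA.fromSpec ≫ g) ≫ σ = φ ≫ CommRingCat.ofHom (algebraMap C (Localization.Away a)) := by
    intro p
    obtain ⟨V, r, hV, hr⟩ := hloc (T.isoSpec.inv p)
    obtain ⟨i, hi⟩ := hO (r ⟨_, hV⟩)
    obtain ⟨A, hA, hpA, hAO⟩ := exists_isAffineOpen_mem_and_subset (X := P) (x := r ⟨_, hV⟩) (U := O i) hi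
    let V' : (Spec C).Opens := T.isoSpec.inv ⁻¹ᵁ (V.ι ''ᵁ (r ⁻¹ᵁ A))
    have hpV : p ∈ V' := ⟨⟨_, hV⟩, hpA, rfl⟩
    obtain ⟨_, ⟨a, rfl⟩, hpa, hsub⟩ :=
      PrimeSpectrum.isTopologicalBasis_basic_opens.exists_subset_of_mem_open (show p ∈ (V' : Set (Spec C)) from hpV) V'.2
    let j : Spec (CommRingCat.of (Localization.Away a)) ⟶ Spec C :=
      Spec.map (CommRingCat.ofHom (algebraMap C (Localization.Away a)))
    have hjr : Set.range j = (PrimeSpectrum.basicOpen a : Set (PrimeSpectrum C)) :=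
      PrimeSpectrum.localization_away_comap_range (Localization.Away a) a
    have h1 : Set.range (j ≫ T.isoSpec.inv) ⊆ Set.range V.ι := by
      rintro _ ⟨y, rfl⟩
      obtain ⟨v, -, hv⟩ := hsub (hjr.le ⟨y, rfl⟩)
      exact ⟨v, hv.trans (Scheme.Hom.comp_apply _ _ _).symm⟩
    let l := IsOpenImmersion.lift V.ι (j ≫ T.isoSpec.inv) h1
    have h2 : Set.range (l ≫ r) ⊆ Set.range hA.fromSpec := by
      rintro _ ⟨y, rfl⟩
      rw [hA.range_fromSpec, Scheme.Hom.comp_apply]
      obtain ⟨v, hv, hv'⟩ := hsub (hjr.le ⟨y, rfl⟩)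
      have : l y = v := V.ι.isOpenEmbedding.injective (by
        rw [← Scheme.Hom.comp_apply, IsOpenImmersion.lift_fac, Scheme.Hom.comp_apply]
        exact hv'.symm)
      rw [this]
      exact hv
    refine ⟨a, A, i, Spec.preimage (IsOpenImmersion.lift hA.fromSpec (l ≫ r) h2), hA, hpa, hAO, ?_⟩
    refine Spec.map_injective ?_
    rw [Spec.map_comp, Spec.map_preimage, Spec.map_preimage, Spec.map_comp, hφ, ← Category.assoc,
      IsOpenImmersion.lift_fac, Category.assoc, hr, ← Category.assoc, IsOpenImmersion.lift_fac, Category.assoc]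
  choose a A i σ hA hpa hAO hσ using key
  obtain ⟨t, ht⟩ := isCompact_univ.elim_finite_subcover
    (fun p : PrimeSpectrum C => (PrimeSpectrum.basicOpen (a p) : Set (PrimeSpectrum C)))
    (fun p => (PrimeSpectrum.basicOpen (a p)).2) (fun p _ => Set.mem_iUnion.2 ⟨p, hpa p⟩)
  have hspan : Ideal.span (a '' (t : Set (PrimeSpectrum C))) = ⊤ := by
    by_contra hne
    obtain ⟨m, hm, hle⟩ := Ideal.exists_le_maximal _ hne
    obtain ⟨p, hp, hmem⟩ := Set.mem_iUnion₂.1 (ht (Set.mem_univ ⟨m, hm.isPrime⟩))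
    exact hmem (hle (Ideal.subset_span ⟨p, hp, rfl⟩))
  obtain ⟨c, hc⟩ := (Submodule.mem_span_image_finset_iff_exists_fun' (R := C)).1
    ((Ideal.eq_top_iff_one _).1 hspan)
  let B : ∀ p : Spec C, CommRingCat.{u} := fun p => Γ(P, A p)
  have hfac : ∀ p : Spec C, ∃ F : Set C, F.Finite ∧ ∀ (D : Subalgebra R C) (ha : a p ∈ D), F ⊆ D →
      ∃ τ : Γ(P, A p) →+* Localization.Away (⟨a p, ha⟩ : D),
        τ.comp (Spec.preimage ((hA p).fromSpec ≫ g)).hom =
          (algebraMap D (Localization.Away (⟨a p, ha⟩ : D))).comp (algebraMap R D) := by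
    intro p
    let ψ := (Spec.preimage ((hA p).fromSpec ≫ g)).hom
    letI : Algebra R Γ(P, A p) := ψ.toAlgebra
    haveI : Algebra.FiniteType R Γ(P, A p) := by
      have : LocallyOfFiniteType (Spec.map (Spec.preimage ((hA p).fromSpec ≫ g))) := by
        rw [Spec.map_preimage]; infer_instance
      exact (HasRingHomProperty.Spec_iff (P := @LocallyOfFiniteType)).1 this
    let σ' : Γ(P, A p) →ₐ[R] Localization.Away (a p) :=
      { (σ p).hom with commutes' := fun x => congr($(hσ p) x) }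
    obtain ⟨F, hF, h⟩ := exists_finset_factor (a p) σ'
    refine ⟨F, hF, fun D ha hFD => ?_⟩
    obtain ⟨τ, -⟩ := h D ha hFD
    exact ⟨τ.toRingHom, τ.comp_algebraMap⟩
  choose F hF hτ using hfac
  let gens : Set C := (⋃ p ∈ t, F p) ∪ a '' (t : Set (PrimeSpectrum C)) ∪ c '' (t : Set (PrimeSpectrum C))
  have hgens : gens.Finite := ((t.finite_toSet.biUnion fun p _ => hF p).union
    (t.finite_toSet.image _)).union (t.finite_toSet.image _)
  let D := Algebra.adjoin R gens
  haveI : Module.Finite R D :=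
    Module.Finite.iff_fg.2 (fg_adjoin_of_finite hgens fun x _ => Algebra.IsIntegral.isIntegral x)
  have haD : ∀ p ∈ t, a p ∈ D := fun p hp => Algebra.subset_adjoin (Or.inl (Or.inr ⟨p, hp, rfl⟩))
  have hcD : ∀ p ∈ t, c p ∈ D := fun p hp => Algebra.subset_adjoin (Or.inr ⟨p, hp, rfl⟩)
  have hFD : ∀ p ∈ t, F p ⊆ (D : Set C) := fun p hp x hx =>
    Algebra.subset_adjoin (Or.inl (Or.inl (Set.mem_biUnion hp hx)))
  choose τ hτeq using fun p : t => hτ p.1 D (haD p p.2) (hFD p p.2)
  let π : Spec (CommRingCat.of D) ⟶ Spec R := Spec.map (CommRingCat.ofHom (algebraMap R D))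
  haveI hfin : IsFinite π := (IsFinite.SpecMap_iff _).2 (RingHom.finite_algebraMap.2 inferInstance)
  have hsurj : Surjective π := by
    refine ⟨fun x => ?_⟩
    obtain ⟨y, hy⟩ := hπs.surj x
    refine ⟨PrimeSpectrum.comap D.val.toRingHom (T.isoSpec.hom y), ?_⟩
    show Spec.map (CommRingCat.ofHom (algebraMap R D))
      (Spec.map (CommRingCat.ofHom D.val.toRingHom) (T.isoSpec.hom y)) = x
    rw [← Scheme.Hom.comp_apply, ← Spec.map_comp,
      show CommRingCat.ofHom (algebraMap R D) ≫ CommRingCat.ofHom D.val.toRingHom = φ from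
        CommRingCat.hom_ext (RingHom.ext fun r => rfl),
      hφ, Scheme.Hom.comp_apply, ← Scheme.Hom.comp_apply T.isoSpec.hom, Iso.hom_inv_id]
    exact hy
  let el : t → D := fun p => ⟨a p.1, haD p p.2⟩
  let e : Fin (Fintype.card t) ≃ t := (Fintype.equivFin t).symm
  refine ⟨CommRingCat.of D, π, hfin, hsurj, Fintype.card t,
    fun k => CommRingCat.of (Localization.Away (el (e k))),
    fun k => Spec.map (CommRingCat.ofHom (algebraMap D (Localization.Away (el (e k))))),
    fun k => Spec.map (CommRingCat.ofHom (τ (e k))) ≫ (hA (e k).1).fromSpec,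
    fun k => IsOpenImmersion.of_isLocalization (el (e k)), fun y => ?_, fun k => ⟨?_, i (e k).1, ?_⟩⟩
  · by_contra hne
    push Not at hne
    have hmem : ∀ p : t, el p ∈ y.asIdeal := fun p => by
      by_contra hp
      refine hne (e.symm p) ?_
      change y ∈ Set.range (PrimeSpectrum.comap (algebraMap D (Localization.Away (el (e (e.symm p))))))
      rw [PrimeSpectrum.localization_away_comap_range (Localization.Away (el (e (e.symm p)))) (el (e (e.symm p))),
        e.apply_symm_apply]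
      exact hp
    refine y.isPrime.ne_top ((Ideal.eq_top_iff_one _).2 ?_)
    have h1 : (1 : D) = ∑ p : t, (⟨c p.1, hcD p p.2⟩ : D) * el p := Subtype.ext (by
      rw [AddSubmonoidClass.coe_finsetSum]
      exact hc.symm.trans (Finset.sum_coe_sort t fun p => c p * a p).symm)
    rw [h1]
    exact y.asIdeal.sum_mem fun p _ => Ideal.mul_mem_left _ _ (hmem p)
  · rw [Category.assoc, ← Spec.map_preimage ((hA (e k).1).fromSpec ≫ g), ← Spec.map_comp, ← Spec.map_comp]
    exact congrArg Spec.map (CommRingCat.hom_ext (hτeq (e k)))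
  · refine Set.Subset.trans ?_ (hAO (e k).1)
    rw [← (hA (e k).1).range_fromSpec]
    rintro _ ⟨y, rfl⟩
    exact ⟨_, (Scheme.Hom.comp_apply _ _ _).symm⟩

end Groth.Agent.FinRefine4
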