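import Mathlib.RingTheory.Localization.Away.Basic
import Mathlib.RingTheory.FiniteType
import Mathlib.RingTheory.IntegralClosure.IsIntegral.Basic

/-!
# Descending maps into localisations of an integral algebra to finite subalgebras
-/

universe u

namespace Groth.Agent.FinRefine4

variable {R C : Type u} [CommRing R] [CommRing C] [Algebra R C]

/-- The map of localisations at an element of a subalgebra. -/
noncomputable def subAway (D : Subalgebra R C) (a : D) : Localization.Away a →+* Localization.Away (a : C) :=
  IsLocalization.Away.lift a (g := (algebraMap C (Localization.Away (a : C))).comp D.val.toRingHom)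
    (IsLocalization.Away.algebraMap_isUnit (a : C))

theorem subAway_algebraMap (D : Subalgebra R C) (a : D) (x : D) :
    subAway D a (algebraMap D _ x) = algebraMap C _ (x : C) :=
  IsLocalization.Away.lift_eq a (IsLocalization.Away.algebraMap_isUnit (S := Localization.Away (a : C)) (a : C)) x

theorem subAway_injective (D : Subalgebra R C) (a : D) : Function.Injective (subAway D a) := by
  rw [injective_iff_map_eq_zero]
  intro x hx
  obtain ⟨n, y, hy⟩ := IsLocalization.Away.surj a x
  have h1 : algebraMap C (Localization.Away (a : C)) (y : C) = 0 := by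
    rw [← subAway_algebraMap, ← hy, map_mul, hx, zero_mul]
  obtain ⟨⟨_, m, rfl⟩, hm⟩ := (IsLocalization.map_eq_zero_iff (Submonoid.powers (a : C)) _ _).1 h1
  have h2 : algebraMap D (Localization.Away a) y = 0 :=
    (IsLocalization.map_eq_zero_iff (Submonoid.powers a) _ _).2
      ⟨⟨a ^ m, m, rfl⟩, Subtype.ext (by simpa using hm)⟩
  exact ((IsLocalization.Away.algebraMap_isUnit a).pow n).mul_left_eq_zero.1 (hy.trans h2)

/-- A map from a finite type algebra into `C_a` factors through `D_a` for large subalgebras `D`. -/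
theorem exists_finset_factor {B : Type u} [CommRing B] [Algebra R B] [Algebra.FiniteType R B]
    (a : C) (σ : B →ₐ[R] Localization.Away a) :
    ∃ F : Set C, F.Finite ∧ ∀ (D : Subalgebra R C) (ha : a ∈ D), F ⊆ D →
      ∃ τ : B →ₐ[R] Localization.Away (⟨a, ha⟩ : D),
        ∀ b, subAway D ⟨a, ha⟩ (τ b) = σ b := by
  classical
  obtain ⟨s, hs⟩ := ‹Algebra.FiniteType R B›.out
  choose n c hc using fun b : B => IsLocalization.Away.surj a (σ b)
  refine ⟨↑(s.image c), Finset.finite_toSet _, fun D ha hF => ?_⟩
  let A := Localization.Away (⟨a, ha⟩ : D)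
  let j : A →ₐ[R] Localization.Away a :=
    { subAway D ⟨a, ha⟩ with
      commutes' := fun r => by
        show subAway D ⟨a, ha⟩ (algebraMap R A r) = _
        rw [IsScalarTower.algebraMap_apply R D A, subAway_algebraMap,
          IsScalarTower.algebraMap_apply R C (Localization.Away a)]
        rfl }
  have hrange : σ.range ≤ j.range := by
    rw [← Algebra.map_top σ, ← hs, AlgHom.map_adjoin, Algebra.adjoin_le_iff]
    rintro _ ⟨b, hb, rfl⟩
    have hcD : c b ∈ D := hF (Finset.mem_coe.2 (Finset.mem_image_of_mem _ hb))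
    obtain ⟨w, hw⟩ := (IsLocalization.Away.algebraMap_isUnit (S := A) (⟨a, ha⟩ : D)).pow (n b)
    refine ⟨algebraMap D A ⟨c b, hcD⟩ * ↑w⁻¹, ?_⟩
    have hu : IsUnit (algebraMap C (Localization.Away a) a ^ n b) :=
      (IsLocalization.Away.algebraMap_isUnit a).pow _
    refine hu.mul_right_cancel ?_
    have h3 : algebraMap C (Localization.Away a) a ^ n b = subAway D ⟨a, ha⟩ (w : A) := by
      rw [hw, map_pow, subAway_algebraMap]
    rw [hc b, h3]
    show subAway D ⟨a, ha⟩ _ * subAway D ⟨a, ha⟩ _ = _
    rw [← map_mul, mul_assoc, Units.inv_mul, mul_one, subAway_algebraMap]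
  let e := AlgEquiv.ofInjective j (subAway_injective D ⟨a, ha⟩)
  refine ⟨e.symm.toAlgHom.comp (σ.codRestrict j.range fun b => hrange ⟨b, rfl⟩), fun b => ?_⟩
  exact congrArg Subtype.val (e.apply_symm_apply ⟨σ b, hrange ⟨b, rfl⟩⟩)

end Groth.Agent.FinRefine4
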